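import Cfsg.Agent.SylowFix.Main

/-!
Consequences: Sylow numbers of subgroups containing a Sylow subgroup, and orbit numbers of Sylow subgroups.
-/

set_option linter.style.haveILetI false
set_option linter.unusedSectionVars false

namespace Cfsg.Lib.SylowFix

open Subgroup MulAction Finset

universe u v

variable {G : Type u} [Group G] [Finite G] {p : ℕ} [hp : Fact p.Prime]

theorem pgen_top (h : closure {g : G | ∃ k : ℕ, orderOf g = p ^ k} = ⊤) : PGen p (⊤ : Subgroup G) := by
  rw [PGen, pgen]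
  simpa using h

theorem orbit_top {Ω : Type v} [MulAction G Ω] [IsPretransitive G Ω] (x : Ω) :
    orbit ↥(⊤ : Subgroup G) x = Set.univ :=
  Set.eq_univ_of_forall fun z => by
    obtain ⟨g, hg⟩ := exists_smul_eq G x z
    exact mem_orbit_iff'.mpr ⟨g, mem_top g, hg⟩

/-- the bound, in any universe -/
theorem slack_nonneg' {Ω : Type v} [MulAction G Ω] {Y : Subgroup G} (hY : PGen p Y) (P : Sylow p G)
    (hP : (P : Subgroup G) ≤ Y) (x : Ω) (h1 : 1 < (orbit ↥Y x).ncard) :
    0 ≤ slack p (P : Subgroup G) (orbit ↥Y x) := by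
  set φ : G ⧸ stabilizer G x → Ω := ofQuotientStabilizer G x
  have hinj : Function.Injective φ := injective_ofQuotientStabilizer G x
  have hsmul : ∀ (g : G) (c : G ⧸ stabilizer G x), φ (g • c) = g • φ c := ofQuotientStabilizer_smul G x
  set x' : G ⧸ stabilizer G x := ((1 : G) : G ⧸ stabilizer G x)
  have hx' : φ x' = x := by simp [φ, x', ofQuotientStabilizer_mk]
  have horb : orbit ↥Y x = φ '' orbit ↥Y x' := by
    ext z
    constructor
    · intro hz
      obtain ⟨y, hy, rfl⟩ := mem_orbit_iff'.mp hz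
      exact ⟨y • x', mem_orbit_iff'.mpr ⟨y, hy, rfl⟩, by rw [hsmul, hx']⟩
    · rintro ⟨c, hc, rfl⟩
      obtain ⟨y, hy, rfl⟩ := mem_orbit_iff'.mp hc
      exact mem_orbit_iff'.mpr ⟨y, hy, by rw [hsmul, hx']⟩
  have hfix : ∀ c, Fixes (P : Subgroup G) (φ c) ↔ Fixes (P : Subgroup G) c := fun c =>
    ⟨fun h g hg => hinj (by rw [hsmul]; exact h hg), fun h g hg => by
      show g • φ c = φ c
      rw [← hsmul, show g • c = c from h hg]⟩
  have hn : (orbit ↥Y x).ncard = (orbit ↥Y x').ncard := by rw [horb, Set.ncard_image_of_injective _ hinj]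
  have hf : fixN (P : Subgroup G) (orbit ↥Y x) = fixN (P : Subgroup G) (orbit ↥Y x') := by
    rw [fixN, fixN, show ({z ∈ orbit ↥Y x | Fixes (P : Subgroup G) z} : Set Ω) =
      φ '' {c ∈ orbit ↥Y x' | Fixes (P : Subgroup G) c} from ?_, Set.ncard_image_of_injective _ hinj]
    rw [horb]
    ext z
    constructor
    · rintro ⟨⟨c, hc, rfl⟩, hz⟩
      exact ⟨c, ⟨hc, (hfix c).mp hz⟩, rfl⟩
    · rintro ⟨c, ⟨hc, hcf⟩, rfl⟩
      exact ⟨⟨c, hc, rfl⟩, (hfix c).mpr hcf⟩
  have h := slack_nonneg hY P hP x' (hn ▸ h1)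
  rw [slack] at h ⊢
  rwa [hn, hf]

theorem sylow_number_le (hgen : closure {g : G | ∃ k : ℕ, orderOf g = p ^ k} = ⊤) (H : Subgroup G) (hH : H ≠ ⊤)
    (P : Sylow p G) (hP : (P : Subgroup G) ≤ H) :
    (2 * p - 1) * Nat.card (Sylow p ↥H) ≤ (p - 1) * Nat.card (Sylow p G) := by
  classical
  haveI : Fintype (G ⧸ H) := Fintype.ofFinite _
  set x : G ⧸ H := ((1 : G) : G ⧸ H)
  have horb := orbit_top (G := G) x
  have hidx : 1 < Nat.card (G ⧸ H) := one_lt_index_of_ne_top hH
  have hs := slack_nonneg' (pgen_top hgen) P le_top x (by rwa [horb, Set.ncard_univ])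
  rw [slack, horb, Set.ncard_univ] at hs
  set f := fixN (P : Subgroup G) (Set.univ : Set (G ⧸ H))
  -- double counting
  have hfix : ∀ Q : Sylow p G, Nat.card {c : G ⧸ H // Fixes (Q : Subgroup G) c} = f := by
    intro Q
    have h := fixN_eq P Q (le_top (a := (P : Subgroup G))) le_top x
    rw [horb] at h
    rw [show Nat.card {c : G ⧸ H // Fixes (Q : Subgroup G) c} = fixN (Q : Subgroup G) (Set.univ : Set (G ⧸ H)) by
      rw [fixN, ← Nat.card_coe_set_eq]
      exact Nat.card_congr (Equiv.subtypeEquivRight fun c => by simp), h]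
  have hsyl : ∀ c : G ⧸ H, Nat.card {Q : Sylow p G // Fixes (Q : Subgroup G) c} = Nat.card (Sylow p ↥H) := by
    intro c
    obtain ⟨g, rfl⟩ := exists_smul_eq G x c
    have e : {Q : Sylow p G // Fixes (Q : Subgroup G) x} ≃ {Q : Sylow p G // Fixes (Q : Subgroup G) (g • x)} :=
      (MulAction.toPerm g : Equiv.Perm (Sylow p G)).subtypeEquiv fun Q => (fixes_smul g).symm
    rw [← Nat.card_congr e]
    have hstab : stabilizer G x = H := MulAction.stabilizer_quotient H
    refine Nat.card_congr (Equiv.ofBijective (fun Q => Q.1.subtype (le_trans Q.2 hstab.le)) ⟨?_, ?_⟩)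
    · intro Q R h
      have hQ : (Q.1 : Subgroup G) ≤ H := le_trans Q.2 hstab.le
      have hR : (R.1 : Subgroup G) ≤ H := le_trans R.2 hstab.le
      refine Subtype.ext (Sylow.ext ?_)
      have := congrArg (fun S : Sylow p ↥H => (S : Subgroup ↥H).map H.subtype) h
      simp only [Sylow.coe_subtype] at this
      rwa [map_subgroupOf_eq_of_le hQ, map_subgroupOf_eq_of_le hR] at this
    · intro S
      obtain ⟨Q, hQ, hQH⟩ := exists_sylow_le P hP (S.2.map H.subtype) (map_subtype_le _)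
      refine ⟨⟨Q, hQH.trans hstab.ge⟩, Sylow.ext (S.is_maximal' (Q.subtype hQH).2 ?_)⟩
      intro z hz
      rw [Sylow.coe_subtype]
      exact hQ (mem_map_of_mem H.subtype hz)
  have hcount : f * Nat.card (Sylow p G) = Nat.card (Sylow p ↥H) * Nat.card (G ⧸ H) := by
    haveI : Fintype (Sylow p G) := Fintype.ofFinite _
    let e : (Σ Q : Sylow p G, {c : G ⧸ H // Fixes (Q : Subgroup G) c}) ≃
        (Σ c : G ⧸ H, {Q : Sylow p G // Fixes (Q : Subgroup G) c}) :=
      { toFun := fun z => ⟨z.2.1, z.1, z.2.2⟩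
        invFun := fun z => ⟨z.2.1, z.1, z.2.2⟩
        left_inv := fun z => rfl
        right_inv := fun z => rfl }
    have h := Nat.card_congr e
    rw [Nat.card_sigma, Nat.card_sigma] at h
    simp only [hfix, hsyl, Finset.sum_const, Finset.card_univ, smul_eq_mul] at h
    rw [← Nat.card_eq_fintype_card, ← Nat.card_eq_fintype_card] at h
    rw [mul_comm f, h, mul_comm]
  have hp2 := hp.out.two_le
  have hs' : (2 * p - 1) * f ≤ (p - 1) * Nat.card (G ⧸ H) := by
    zify [show 1 ≤ 2 * p by omega, show 1 ≤ p by omega]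
    linarith
  refine Nat.le_of_mul_le_mul_right (c := Nat.card (G ⧸ H)) ?_ (by omega)
  calc (2 * p - 1) * Nat.card (Sylow p ↥H) * Nat.card (G ⧸ H)
      = (2 * p - 1) * f * Nat.card (Sylow p G) := by rw [mul_assoc, ← hcount, mul_assoc]
    _ ≤ (p - 1) * Nat.card (G ⧸ H) * Nat.card (Sylow p G) := Nat.mul_le_mul_right _ hs'
    _ = (p - 1) * Nat.card (Sylow p G) * Nat.card (G ⧸ H) := by ring

theorem orbit_count_le {Ω : Type v} [MulAction G Ω] [FaithfulSMul G Ω] [Finite Ω] [IsPretransitive G Ω]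
    (hpG : p ∣ Nat.card G) (P : Sylow p G) :
    (2 * p - 1) * Nat.card (orbitRel.Quotient ↥(P : Subgroup G) Ω) ≤ p * Nat.card Ω := by
  classical
  have hp2 := hp.out.two_le
  rcases isEmpty_or_nonempty Ω with hΩ | ⟨⟨x⟩⟩
  · haveI : IsEmpty (orbitRel.Quotient ↥(P : Subgroup G) Ω) := ⟨fun q => Quotient.inductionOn q fun a => hΩ.false a⟩
    simp
  set O := pgen p (⊤ : Subgroup G)
  have hPO : (P : Subgroup G) ≤ O := le_pgen P.2 le_top
  have hOn : ∀ g : G, O.map (MulAut.conj g).toMonoidHom = O := fun g => by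
    rw [pgen_map_conj, map_top_of_surjective _ (MulAut.conj g).surjective]
  obtain ⟨I, hI, hmem⟩ := slack_decomp (p := p) (le_top (a := O)) (P : Subgroup G) x
  have hnonneg : 0 ≤ slack p (P : Subgroup G) (orbit ↥(⊤ : Subgroup G) x) := by
    rw [hI]
    refine Finset.sum_nonneg fun o ho => ?_
    obtain ⟨z, -, rfl⟩ := (hmem o).mp ho
    refine slack_nonneg' (pgen_pgen _) P hPO z ?_
    by_contra hle
    -- `O` fixes every point
    have hfix : Fixes O z := fun g hg =>
      (Set.ncard_le_one (orbit_finite O z)).mp (not_lt.mp hle) (g • z) (mem_orbit_iff'.mpr ⟨g, hg, rfl⟩) z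
        (mem_orbit_self z)
    have hO : O = ⊥ := by
      rw [eq_bot_iff]
      intro g hg
      rw [mem_bot]
      refine eq_of_smul_eq_smul (α := Ω) fun w => ?_
      obtain ⟨c, rfl⟩ := exists_smul_eq G z w
      have h := (fixes_smul c).mpr hfix
      rw [hOn c] at h
      rw [one_smul]
      exact h hg
    obtain ⟨g, hg⟩ := exists_prime_orderOf_dvd_card' p hpG
    have : g ∈ O := subset_closure ⟨mem_top g, 1, by rw [hg, pow_one]⟩
    rw [hO, mem_bot] at this
    rw [this, orderOf_one] at hg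
    exact hp.out.ne_one hg.symm
  rw [orbit_top, slack, Set.ncard_univ] at hnonneg
  -- orbit counting
  haveI : Fintype (orbitRel.Quotient ↥(P : Subgroup G) Ω) := Fintype.ofFinite _
  have hn : Nat.card Ω = ∑ q : orbitRel.Quotient ↥(P : Subgroup G) Ω, Nat.card ↥(orbitRel.Quotient.orbit q) := by
    rw [Nat.card_congr (selfEquivSigmaOrbits' ↥(P : Subgroup G) Ω), Nat.card_sigma]
  set one := (Finset.univ : Finset (orbitRel.Quotient ↥(P : Subgroup G) Ω)).filter (fun q => Nat.card ↥(orbitRel.Quotient.orbit q) = 1)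
  have hsize : ∀ q : orbitRel.Quotient ↥(P : Subgroup G) Ω, p ≤ Nat.card ↥(orbitRel.Quotient.orbit q) + (if q ∈ one then p - 1 else 0) := by
    intro q
    induction q using Quotient.inductionOn' with
    | h a =>
      obtain ⟨k, hk⟩ := P.2.card_orbit a
      have : Nat.card ↥(orbitRel.Quotient.orbit (Quotient.mk'' a : orbitRel.Quotient ↥(P : Subgroup G) Ω)) = p ^ k := by
        rw [orbitRel.Quotient.orbit_mk]; exact hk
      rw [this]
      rcases k with _ | k
      · rw [if_pos (Finset.mem_filter.mpr ⟨Finset.mem_univ _, by rw [this, pow_zero]⟩), pow_zero]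
        omega
      · exact (Nat.le_self_pow (by omega) p).trans (Nat.le_add_right _ _)
  have hone : one.card ≤ fixN (P : Subgroup G) (Set.univ : Set Ω) := by
    rw [← Set.ncard_coe_finset]
    refine Set.ncard_le_ncard_of_injOn (fun q => q.out) (fun q hq => ⟨trivial, fun g hg => ?_⟩)
      (fun a _ b _ h => by simpa using congrArg (Quotient.mk'' : Ω → orbitRel.Quotient ↥(P : Subgroup G) Ω) h)
      ((Set.finite_univ).sep _)
    have hq1 := (Finset.mem_filter.mp hq).2
    rw [orbitRel.Quotient.orbit_eq_orbit_out q (fun a => Quotient.out_eq' a), Nat.card_coe_set_eq] at hq1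
    exact (Set.ncard_le_one (Set.toFinite _)).mp hq1.le (g • q.out) ⟨⟨g, hg⟩, rfl⟩ q.out (mem_orbit_self _)
  have hsum : p * Nat.card (orbitRel.Quotient ↥(P : Subgroup G) Ω) ≤ Nat.card Ω + (p - 1) * one.card := by
    have h := Finset.sum_le_sum (s := Finset.univ) fun q _ => hsize q
    rw [Finset.sum_add_distrib, Finset.sum_const, Finset.card_univ, smul_eq_mul, ← hn, Finset.sum_ite_mem,
      Finset.univ_inter, Finset.sum_const, smul_eq_mul, ← Nat.card_eq_fintype_card] at h
    rwa [mul_comm p, mul_comm (p - 1)]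
  suffices h : p * ((2 * p - 1) * Nat.card (orbitRel.Quotient ↥(P : Subgroup G) Ω)) ≤ p * (p * Nat.card Ω) from
    Nat.le_of_mul_le_mul_left h hp.out.pos
  zify [show 1 ≤ 2 * p by omega] at hsum hone ⊢
  rw [Nat.cast_sub (show 1 ≤ p by omega)] at hsum
  push_cast at hsum hnonneg ⊢
  have h1 := mul_le_mul_of_nonneg_left hsum (show (0 : ℤ) ≤ 2 * p - 1 by omega)
  have h2 := mul_le_mul_of_nonneg_left hone (show (0 : ℤ) ≤ ((p : ℤ) - 1) * (2 * p - 1) by nlinarith)
  have h3 := mul_le_mul_of_nonneg_left (sub_nonneg.mp hnonneg) (show (0 : ℤ) ≤ (p : ℤ) - 1 by omega)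
  nlinarith

end Cfsg.Lib.SylowFix
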