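import Cfsg.Agent.Coprime.Sylow

/-!
Fixed points of a Sylow subgroup on the orbits of subgroups generated by their elements of prime power order.
-/

set_option linter.style.haveILetI false
set_option linter.unusedSectionVars false

namespace Cfsg.Lib.SylowFix

open Subgroup MulAction

universe u v

variable {G : Type u} [Group G] (p : ℕ)

/-- the subgroup generated by the `p`-elements of `Y` -/
def pgen (Y : Subgroup G) : Subgroup G := closure {g | g ∈ Y ∧ ∃ k, orderOf g = p ^ k}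

/-- `Y` is generated by its `p`-elements -/
def PGen (Y : Subgroup G) : Prop := pgen p Y = Y

variable {p}

theorem pgen_le (Y : Subgroup G) : pgen p Y ≤ Y := by
  rw [pgen, closure_le]
  exact fun g hg => hg.1

theorem le_pgen [Fact p.Prime] {Y W : Subgroup G} (hW : IsPGroup p ↥W) (h : W ≤ Y) : W ≤ pgen p Y := by
  intro g hg
  obtain ⟨k, hk⟩ := IsPGroup.iff_orderOf.mp hW ⟨g, hg⟩
  rw [orderOf_mk] at hk
  exact subset_closure ⟨h hg, k, hk⟩

theorem pgen_pgen (Y : Subgroup G) : PGen p (pgen p Y) := by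
  refine le_antisymm (pgen_le _) ?_
  rw [pgen, closure_le]
  exact fun g hg => subset_closure ⟨subset_closure hg, hg.2⟩

theorem PGen.le_of_forall {Y M : Subgroup G} (hY : PGen p Y)
    (h : ∀ g ∈ Y, (∃ k, orderOf g = p ^ k) → g ∈ M) : Y ≤ M := by
  rw [← hY, pgen, closure_le]
  exact fun g hg => h g hg.1 hg.2

theorem pgen_map_conj (g : G) (Y : Subgroup G) :
    (pgen p Y).map (MulAut.conj g).toMonoidHom = pgen p (Y.map (MulAut.conj g).toMonoidHom) := by
  rw [pgen, pgen, MonoidHom.map_closure]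
  congr 1
  ext x
  constructor
  · rintro ⟨y, ⟨hy, k, hk⟩, rfl⟩
    exact ⟨⟨y, hy, rfl⟩, k, (MulEquiv.orderOf_eq (MulAut.conj g) y).trans hk⟩
  · rintro ⟨⟨y, hy, rfl⟩, k, hk⟩
    exact ⟨y, ⟨hy, k, (MulEquiv.orderOf_eq (MulAut.conj g) y).symm.trans hk⟩, rfl⟩

variable [Finite G] [hp : Fact p.Prime]

/-- a `p`-subgroup normalising a subgroup that contains a Sylow subgroup lies in it -/
theorem le_of_normalizing (Q : Sylow p G) {M W : Subgroup G} (hQ : (Q : Subgroup G) ≤ M) (hW : IsPGroup p ↥W)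
    (hn : W ≤ normalizer (M : Set G)) : W ≤ M := by
  have h := Cfsg.Lib.Coprime.card_sup_mul_card_inf hn
  obtain ⟨a, ha⟩ := IsPGroup.iff_card.mp hW
  obtain ⟨b, hb, hb'⟩ := (Nat.dvd_prime_pow hp.out).mp (ha ▸ card_dvd_of_le (inf_le_right : M ⊓ W ≤ W))
  have h1 : Nat.card ↥(Q : Subgroup G) ∣ Nat.card ↥M := card_dvd_of_le hQ
  obtain ⟨c, hc⟩ := h1
  obtain ⟨d, hd⟩ := (M ⊔ W).card_subgroup_dvd_card
  have hidx := Q.not_dvd_index
  have hG := (Q : Subgroup G).card_mul_index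
  rw [hb', ha, hc] at h
  by_contra hne
  have hlt : b < a := by
    refine lt_of_le_of_ne hb fun hba => hne ?_
    rw [hba, ← ha] at hb'
    exact (eq_of_le_of_card_ge inf_le_right hb'.ge).ge.trans inf_le_left
  have h2 : Nat.card ↥(M ⊔ W) = Nat.card ↥(Q : Subgroup G) * (c * p ^ (a - b)) := by
    refine Nat.eq_of_mul_eq_mul_right (pow_pos hp.out.pos b) ?_
    rw [h, show p ^ a = p ^ (a - b) * p ^ b by rw [← pow_add]; congr 1; omega]
    ring
  apply hidx
  have h3 : (Q : Subgroup G).index = c * p ^ (a - b) * d :=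
    Nat.eq_of_mul_eq_mul_left (Nat.card_pos (α := ↥(Q : Subgroup G))) (by rw [hG, hd, h2]; ring)
  rw [h3]
  exact Dvd.dvd.mul_right (Dvd.dvd.mul_left (dvd_pow_self p (by omega)) c) d

/-- Sylow subgroups of `G` contained in `Y` are conjugate in `Y` -/
theorem exists_conj_mem {Y : Subgroup G} (P Q : Sylow p G) (hP : (P : Subgroup G) ≤ Y) (hQ : (Q : Subgroup G) ≤ Y) :
    ∃ y ∈ Y, (Q : Subgroup G) = (P : Subgroup G).map (MulAut.conj y).toMonoidHom := by
  obtain ⟨y, hy⟩ := MulAction.exists_smul_eq ↥Y (P.subtype hP) (Q.subtype hQ)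
  refine ⟨y, y.2, ?_⟩
  have h := congrArg (fun S : Sylow p ↥Y => (S : Subgroup ↥Y).map Y.subtype) hy
  simp only [Sylow.coe_subgroup_smul, Sylow.coe_subtype] at h
  rw [map_subgroupOf_eq_of_le hQ] at h
  rw [← h]
  ext z
  constructor
  · rintro ⟨_, ⟨w, hw, rfl⟩, rfl⟩
    exact ⟨(w : G), hw, rfl⟩
  · rintro ⟨w, hw, rfl⟩
    exact ⟨_, ⟨⟨w, hP hw⟩, hw, rfl⟩, rfl⟩

/-- every `p`-element of `Y` lies in a conjugate of `P` inside `Y` -/
theorem exists_sylow_le {Y W : Subgroup G} (P : Sylow p G) (hP : (P : Subgroup G) ≤ Y) (hW : IsPGroup p ↥W)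
    (h : W ≤ Y) : ∃ Q : Sylow p G, W ≤ (Q : Subgroup G) ∧ (Q : Subgroup G) ≤ Y := by
  obtain ⟨S, hS⟩ := (hW.comap_subtype (K := Y)).exists_le_sylow
  have hSp : IsPGroup p ↥((S : Subgroup ↥Y).map Y.subtype) := S.2.map _
  obtain ⟨Q, hQ⟩ := hSp.exists_le_sylow
  have hc : Nat.card ↥((S : Subgroup ↥Y).map Y.subtype) = Nat.card ↥(Q : Subgroup G) := by
    rw [card_map_of_injective Y.subtype_injective,
      show Nat.card ↥(S : Subgroup ↥Y) = Nat.card ↥((P.subtype hP : Sylow p ↥Y) : Subgroup ↥Y) from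
        (Sylow.card_eq_multiplicity _).trans (Sylow.card_eq_multiplicity _).symm,
      Sylow.coe_subtype, Nat.card_congr (subgroupOfEquivOfLe hP).toEquiv]
    exact P.card_eq_multiplicity.trans Q.card_eq_multiplicity.symm
  have he := eq_of_le_of_card_ge hQ hc.ge
  refine ⟨Q, ?_, he ▸ map_subtype_le _⟩
  rw [← he, ← map_subgroupOf_eq_of_le h]
  exact map_mono hS

section action

variable {Ω : Type v} [MulAction G Ω]

/-- `P` fixes `x` -/
def Fixes (P : Subgroup G) (x : Ω) : Prop := P ≤ stabilizer G x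

/-- the generating subgroup of a point stabiliser -/
def kappa (p : ℕ) (Y : Subgroup G) (x : Ω) : Subgroup G := pgen p (Y ⊓ stabilizer G x)

/-- number of fixed points in a set -/
noncomputable def fixN (P : Subgroup G) (O : Set Ω) : ℕ := {x ∈ O | Fixes P x}.ncard

/-- `(p-1)n - (2p-1)f` -/
noncomputable def slack (p : ℕ) (P : Subgroup G) (O : Set Ω) : ℤ :=
  ((p : ℤ) - 1) * O.ncard - (2 * (p : ℤ) - 1) * fixN P O

theorem mem_orbit_iff' {Y : Subgroup G} {x z : Ω} : z ∈ orbit ↥Y x ↔ ∃ y ∈ Y, y • x = z :=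
  ⟨fun ⟨y, hy⟩ => ⟨y, y.2, hy⟩, fun ⟨y, hy, h⟩ => ⟨⟨y, hy⟩, h⟩⟩

theorem kappa_le (Y : Subgroup G) (x : Ω) : kappa p Y x ≤ Y := (pgen_le _).trans inf_le_left

theorem kappa_le_stab (Y : Subgroup G) (x : Ω) : kappa p Y x ≤ stabilizer G x := (pgen_le _).trans inf_le_right

theorem pgen_kappa (Y : Subgroup G) (x : Ω) : PGen p (kappa p Y x) := pgen_pgen _

theorem le_kappa {Y W : Subgroup G} {x : Ω} (hW : IsPGroup p ↥W) (hY : W ≤ Y) (hx : Fixes W x) :
    W ≤ kappa p Y x := le_pgen hW (le_inf hY hx)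

theorem fixes_smul {W : Subgroup G} {x : Ω} (g : G) :
    Fixes (W.map (MulAut.conj g).toMonoidHom) (g • x) ↔ Fixes W x := by
  constructor
  · intro h w hw
    have := h (mem_map_of_mem _ hw)
    simpa [mem_stabilizer_iff, mul_smul] using this
  · rintro h _ ⟨w, hw, rfl⟩
    simp [mem_stabilizer_iff, mul_smul, mem_stabilizer_iff.mp (h hw)]

theorem kappa_smul {Y : Subgroup G} (x : Ω) {y : G} (hy : y ∈ Y) :
    kappa p Y (y • x) = (kappa p Y x).map (MulAut.conj y).toMonoidHom := by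
  rw [kappa, kappa, pgen_map_conj, Subgroup.map_inf _ _ _ (MulAut.conj y).injective]
  congr 2
  · ext z
    constructor
    · intro hz
      exact ⟨y⁻¹ * z * y, mul_mem (mul_mem (inv_mem hy) hz) hy, by simp [mul_assoc]⟩
    · rintro ⟨w, hw, rfl⟩
      exact mul_mem (mul_mem hy hw) (inv_mem hy)
  · exact stabilizer_smul_eq_stabilizer_map_conj y x

theorem card_kappa {Y : Subgroup G} {x z : Ω} (hz : z ∈ orbit ↥Y x) :
    Nat.card ↥(kappa p Y z) = Nat.card ↥(kappa p Y x) := by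
  obtain ⟨y, hy, rfl⟩ := mem_orbit_iff'.mp hz
  rw [kappa_smul x hy, card_map_of_injective (MulAut.conj y).injective]

/-- the number of fixed points does not depend on the Sylow subgroup -/
theorem fixN_eq {Y : Subgroup G} (P Q : Sylow p G) (hP : (P : Subgroup G) ≤ Y) (hQ : (Q : Subgroup G) ≤ Y) (x : Ω) :
    fixN (Q : Subgroup G) (orbit ↥Y x) = fixN (P : Subgroup G) (orbit ↥Y x) := by
  obtain ⟨y, hy, hQy⟩ := exists_conj_mem P Q hP hQ
  have h : {z ∈ orbit ↥Y x | Fixes (Q : Subgroup G) z} =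
      (fun z => y • z) '' {z ∈ orbit ↥Y x | Fixes (P : Subgroup G) z} := by
    ext z
    constructor
    · rintro ⟨hz, hzf⟩
      refine ⟨y⁻¹ • z, ⟨?_, ?_⟩, smul_inv_smul y z⟩
      · obtain ⟨w, hw, rfl⟩ := mem_orbit_iff'.mp hz
        exact mem_orbit_iff'.mpr ⟨y⁻¹ * w, mul_mem (inv_mem hy) hw, mul_smul _ _ _⟩
      · rw [← fixes_smul y, smul_inv_smul, ← hQy]
        exact hzf
    · rintro ⟨w, ⟨hw, hwf⟩, rfl⟩
      refine ⟨?_, ?_⟩
      · obtain ⟨v, hv, rfl⟩ := mem_orbit_iff'.mp hw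
        exact mem_orbit_iff'.mpr ⟨y * v, mul_mem hy hv, mul_smul _ _ _⟩
      · rw [hQy, fixes_smul]
        exact hwf
  rw [fixN, fixN, h, Set.ncard_image_of_injective _ (MulAction.injective y)]

theorem slack_eq {Y : Subgroup G} (P Q : Sylow p G) (hP : (P : Subgroup G) ≤ Y) (hQ : (Q : Subgroup G) ≤ Y) (x : Ω) :
    slack p (Q : Subgroup G) (orbit ↥Y x) = slack p (P : Subgroup G) (orbit ↥Y x) := by
  rw [slack, slack, fixN_eq P Q hP hQ]

theorem orbit_finite (Y : Subgroup G) (x : Ω) : (orbit ↥Y x).Finite := Set.finite_range _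

/-- the congruence -/
theorem ncard_modEq {Y : Subgroup G} {P : Subgroup G} (hPp : IsPGroup p ↥P) (hP : P ≤ Y) (x : Ω) :
    (orbit ↥Y x).ncard ≡ fixN P (orbit ↥Y x) [MOD p] := by
  haveI : Finite ↥(orbit ↥Y x) := (orbit_finite Y x).to_subtype
  have h := (hPp.comap_subtype (K := Y)).card_modEq_card_fixedPoints ↥(orbit ↥Y x)
  rw [Nat.card_coe_set_eq] at h
  refine h.trans ?_
  show _ % p = _ % p
  congr 1
  rw [fixN, ← Nat.card_coe_set_eq {z ∈ orbit ↥Y x | Fixes P z}]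
  refine Nat.card_congr
    { toFun := fun z => ⟨z.1.1, z.1.2, fun g hg => congrArg Subtype.val (z.2 ⟨⟨g, hP hg⟩, hg⟩)⟩
      invFun := fun z => ⟨⟨z.1, z.2.1⟩, fun g => Subtype.ext (z.2.2 g.2)⟩
      left_inv := fun z => rfl
      right_inv := fun z => rfl }

theorem slack_dvd {Y : Subgroup G} {P : Subgroup G} (hPp : IsPGroup p ↥P) (hP : P ≤ Y) (x : Ω) :
    (p : ℤ) ∣ slack p P (orbit ↥Y x) := by
  have h := Int.natCast_modEq_iff.mpr (ncard_modEq hPp hP x)
  obtain ⟨c, hc⟩ := Int.ModEq.dvd h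
  exact ⟨(orbit ↥Y x).ncard - 2 * fixN P (orbit ↥Y x) + c, by rw [slack]; linear_combination hc⟩

theorem fixN_le {P : Subgroup G} {O : Set Ω} (hO : O.Finite) : fixN P O ≤ O.ncard :=
  Set.ncard_le_ncard (Set.sep_subset _ _) hO

/-- a small slack forces a fixed point -/
theorem exists_fixed {Y : Subgroup G} (P : Sylow p G) (hP : (P : Subgroup G) ≤ Y) (x : Ω)
    (hs : slack p (P : Subgroup G) (orbit ↥Y x) < ((p : ℤ) - 1) * p) :
    ∃ z ∈ orbit ↥Y x, Fixes (P : Subgroup G) z := by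
  by_contra hcon
  have h0 : fixN (P : Subgroup G) (orbit ↥Y x) = 0 := by
    rw [fixN, Set.ncard_eq_zero ((orbit_finite Y x).sep _)]
    exact Set.eq_empty_iff_forall_notMem.mpr fun z hz => hcon ⟨z, hz⟩
  have h1 := ncard_modEq P.2 hP x
  rw [h0] at h1
  have h2 : p ≤ (orbit ↥Y x).ncard := Nat.le_of_dvd
    ((Set.ncard_pos (orbit_finite Y x)).mpr (nonempty_orbit x)) (Nat.modEq_zero_iff_dvd.mp h1)
  rw [slack, h0] at hs
  have := hp.out.two_le
  push_cast at hs
  nlinarith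

/-- some Sylow subgroup of `Y` fixes the given point -/
theorem exists_sylow_fixing {Y : Subgroup G} (P : Sylow p G) (hP : (P : Subgroup G) ≤ Y) {x z : Ω}
    (hz : z ∈ orbit ↥Y x) (hPz : Fixes (P : Subgroup G) z) :
    ∀ w ∈ orbit ↥Y x, ∃ Q : Sylow p G, (Q : Subgroup G) ≤ Y ∧ Fixes (Q : Subgroup G) w := by
  intro w hw
  rw [← orbit_eq_iff.mpr hz] at hw
  obtain ⟨y, hy, rfl⟩ := mem_orbit_iff'.mp hw
  refine ⟨y • P, ?_, ?_⟩
  · rintro _ ⟨u, hu, rfl⟩
    exact mul_mem (mul_mem hy (hP hu)) (inv_mem hy)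
  · exact (fixes_smul y).mpr hPz

end action

/-- subgroups as points, moved by conjugation -/
structure SubPts (G : Type u) [Group G] where
  /-- the subgroup -/
  sub : Subgroup G

instance : MulAction G (SubPts G) where
  smul g K := ⟨K.sub.map (MulAut.conj g).toMonoidHom⟩
  one_smul K := by
    show SubPts.mk _ = K
    obtain ⟨K⟩ := K
    congr 1
    ext z
    simp
  mul_smul a b K := by
    show SubPts.mk _ = SubPts.mk _
    congr 1
    show _ = ((K.sub.map (MulAut.conj b).toMonoidHom)).map _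
    rw [Subgroup.map_map]
    congr 1
    ext z
    simp [mul_assoc]

theorem subPts_smul (g : G) (K : Subgroup G) :
    g • (⟨K⟩ : SubPts G) = ⟨K.map (MulAut.conj g).toMonoidHom⟩ := rfl

theorem subPts_stab (g : G) (K : Subgroup G) :
    g ∈ stabilizer G (⟨K⟩ : SubPts G) ↔ g ∈ normalizer (K : Set G) := by
  rw [mem_stabilizer_iff, subPts_smul, SubPts.mk.injEq]
  exact Cfsg.Lib.Coprime.conjMap_eq_self_iff

end Cfsg.Lib.SylowFix
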