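import Cfsg.Agent.SylowFix.Basic

/-!
A Sylow `p`-subgroup of a group generated by its `p`-elements fixes at most `(p-1)/(2p-1)` of the points of a
nontrivial orbit. The proof is by induction on the degree; the extreme case is killed because any `p - 1` points
then share a Sylow subgroup with the base point, while no Sylow subgroup fixes an orbit of length `p` of a
`p`-element pointwise.
-/

set_option linter.style.haveILetI false
set_option linter.unusedSectionVars false

namespace Cfsg.Lib.SylowFix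

open Subgroup MulAction Finset

universe u v

variable {G : Type u} [Group G] [Finite G] {p : ℕ} [hp : Fact p.Prime]

section

variable {Ω : Type v} [MulAction G Ω]

theorem slack_singleton_ge (P : Subgroup G) (x : Ω) : -(p : ℤ) ≤ slack p P {x} := by
  have h := fixN_le (P := P) (Set.finite_singleton x)
  rw [Set.ncard_singleton] at h
  have := hp.out.two_le
  rw [slack, Set.ncard_singleton]
  rcases Nat.le_one_iff_eq_zero_or_eq_one.mp h with h | h <;> rw [h] <;> push_cast <;> omega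

/-- the slack is additive over the orbits of a subgroup -/
theorem slack_decomp {Y K : Subgroup G} (hK : K ≤ Y) (P : Subgroup G) (x : Ω) :
    ∃ I : Finset (Set Ω), slack p P (orbit ↥Y x) = ∑ o ∈ I, slack p P o ∧
      ∀ o, o ∈ I ↔ ∃ z ∈ orbit ↥Y x, orbit ↥K z = o := by
  classical
  set O := (orbit_finite Y x).toFinset
  refine ⟨O.image (fun z => orbit ↥K z), ?_, fun o => by simp [O]⟩
  have hfib : ∀ z ∈ O, O.filter (fun w => orbit ↥K w = orbit ↥K z) = (orbit_finite K z).toFinset := by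
    intro z hz
    ext w
    simp only [Finset.mem_filter, Set.Finite.mem_toFinset, O] at hz ⊢
    refine ⟨fun h => h.2 ▸ mem_orbit_self w, fun h => ⟨?_, orbit_eq_iff.mpr h⟩⟩
    rw [← orbit_eq_iff.mpr hz]
    obtain ⟨k, hk, rfl⟩ := mem_orbit_iff'.mp h
    exact mem_orbit_iff'.mpr ⟨k, hK hk, rfl⟩
  have h1 : (orbit ↥Y x).ncard = ∑ o ∈ O.image (fun z => orbit ↥K z), o.ncard := by
    rw [Set.ncard_eq_toFinset_card _ (orbit_finite Y x),
      Finset.card_eq_sum_card_fiberwise (f := fun z => orbit ↥K z) (t := O.image fun z => orbit ↥K z)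
        (fun a ha => Finset.mem_image_of_mem _ ha)]
    refine Finset.sum_congr rfl fun o ho => ?_
    obtain ⟨z, hz, rfl⟩ := Finset.mem_image.mp ho
    rw [hfib z hz, ← Set.ncard_eq_toFinset_card _ (orbit_finite K z)]
  have h2 : fixN P (orbit ↥Y x) = ∑ o ∈ O.image (fun z => orbit ↥K z), fixN P o := by
    have hs : ({z ∈ orbit ↥Y x | Fixes P z} : Set Ω) = ↑(O.filter (fun z => Fixes P z)) := by
      ext z; simp [O]
    rw [fixN, hs, Set.ncard_coe_finset,
      Finset.card_eq_sum_card_fiberwise (f := fun z => orbit ↥K z) (t := O.image fun z => orbit ↥K z)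
        (fun a ha => Finset.mem_image_of_mem _ (Finset.mem_filter.mp ha).1)]
    refine Finset.sum_congr rfl fun o ho => ?_
    obtain ⟨z, hz, rfl⟩ := Finset.mem_image.mp ho
    rw [Finset.filter_comm, hfib z hz, fixN, ← Set.ncard_coe_finset]
    congr 1
    ext w
    simp
  rw [slack, h1, h2]
  push_cast
  rw [Finset.mul_sum, Finset.mul_sum, ← Finset.sum_sub_distrib]
  rfl

/-- the point `kappa p Y z` -/
def pt (p : ℕ) (Y : Subgroup G) (z : Ω) : SubPts G := ⟨kappa p Y z⟩

theorem pt_smul (Y : Subgroup G) (z : Ω) {y : G} (hy : y ∈ Y) : pt p Y (y • z) = y • pt p Y z := by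
  rw [pt, pt, subPts_smul, kappa_smul z hy]

theorem pt_image (Y : Subgroup G) (x : Ω) : pt p Y '' orbit ↥Y x = orbit ↥Y (pt p Y x) := by
  ext w
  constructor
  · rintro ⟨z, hz, rfl⟩
    obtain ⟨y, hy, rfl⟩ := mem_orbit_iff'.mp hz
    exact mem_orbit_iff'.mpr ⟨y, hy, (pt_smul Y x hy).symm⟩
  · intro hw
    obtain ⟨y, hy, rfl⟩ := mem_orbit_iff'.mp hw
    exact ⟨y • x, mem_orbit_iff'.mpr ⟨y, hy, rfl⟩, pt_smul Y x hy⟩

/-- a subgroup generated by `p`-elements that fixes the point `kappa` lies inside it -/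
theorem le_of_fixes_pt {Y K : Subgroup G} (hK : PGen p K) {z : Ω} (Q : Sylow p G)
    (hQ : (Q : Subgroup G) ≤ kappa p Y z) (h : Fixes K (pt p Y z)) : K ≤ kappa p Y z := by
  refine hK.le_of_forall fun g hg hgo => ?_
  obtain ⟨k, hk⟩ := hgo
  exact le_of_normalizing Q hQ (IsPGroup.of_card (n := k) (by rw [Nat.card_zpowers, hk]))
    (zpowers_le.mpr ((subPts_stab g _).mp (h hg))) (mem_zpowers g)

theorem fixes_pt_iff {Y : Subgroup G} (Q : Sylow p G) (hQY : (Q : Subgroup G) ≤ Y) {z : Ω}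
    (hz : ∃ R : Sylow p G, (R : Subgroup G) ≤ kappa p Y z) :
    Fixes (Q : Subgroup G) (pt p Y z) ↔ Fixes (Q : Subgroup G) z := by
  obtain ⟨R, hR⟩ := hz
  constructor
  · intro h
    exact (le_of_normalizing R hR Q.2 fun g hg => (subPts_stab g _).mp (h hg)).trans (kappa_le_stab Y z)
  · intro h g hg
    exact (subPts_stab g _).mpr (le_normalizer (le_kappa Q.2 hQY h hg))

/-- the reduced orbit -/
theorem slack_pt {Y : Subgroup G} (P : Sylow p G) (hP : (P : Subgroup G) ≤ Y) {x x₀ : Ω}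
    (hx₀ : x₀ ∈ orbit ↥Y x) (hfx : Fixes (P : Subgroup G) x₀) :
    ∃ b : ℕ, 1 ≤ b ∧ slack p (P : Subgroup G) (orbit ↥Y x) =
        (b : ℤ) * slack p (P : Subgroup G) (orbit ↥Y (pt p Y x)) ∧
      (orbit ↥Y x).ncard = b * (orbit ↥Y (pt p Y x)).ncard ∧
      ∀ z ∈ orbit ↥Y x, z ≠ x → pt p Y z = pt p Y x → 2 ≤ b := by
  classical
  set O := (orbit_finite Y x).toFinset with hO
  set Ob := (orbit_finite Y (pt p Y x)).toFinset with hOb
  set b := (O.filter (fun w => pt p Y w = pt p Y x)).card with hb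
  have hmaps : ∀ a ∈ O, pt p Y a ∈ Ob := fun a ha => by
    rw [hOb, Set.Finite.mem_toFinset, ← pt_image]
    exact ⟨a, (Set.Finite.mem_toFinset _).mp ha, rfl⟩
  have hfib : ∀ w ∈ Ob, (O.filter (fun a => pt p Y a = w)).card = b := by
    intro w hw
    rw [hOb, Set.Finite.mem_toFinset] at hw
    obtain ⟨y, hy, rfl⟩ := mem_orbit_iff'.mp hw
    rw [hb]
    refine (Finset.card_bij (fun a _ => y • a) (fun a ha => ?_) (fun a _ c _ h => MulAction.injective y h)
      (fun c hc => ?_)).symm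
    · rw [Finset.mem_filter, hO, Set.Finite.mem_toFinset] at ha ⊢
      refine ⟨?_, by rw [pt_smul Y a hy, ha.2]⟩
      obtain ⟨v, hv, rfl⟩ := mem_orbit_iff'.mp ha.1
      exact mem_orbit_iff'.mpr ⟨y * v, mul_mem hy hv, mul_smul _ _ _⟩
    · rw [Finset.mem_filter, hO, Set.Finite.mem_toFinset] at hc
      obtain ⟨v, hv, rfl⟩ := mem_orbit_iff'.mp hc.1
      refine ⟨y⁻¹ • (v • x), ?_, smul_inv_smul y _⟩
      rw [Finset.mem_filter, hO, Set.Finite.mem_toFinset, pt_smul Y _ (inv_mem hy), hc.2, inv_smul_smul]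
      exact ⟨mem_orbit_iff'.mpr ⟨y⁻¹ * v, mul_mem (inv_mem hy) hv, mul_smul _ _ _⟩, rfl⟩
  have hn : (orbit ↥Y x).ncard = b * (orbit ↥Y (pt p Y x)).ncard := by
    rw [Set.ncard_eq_toFinset_card _ (orbit_finite Y x), Set.ncard_eq_toFinset_card _ (orbit_finite Y (pt p Y x)),
      ← hO, ← hOb, Finset.card_eq_sum_card_fiberwise hmaps, Finset.sum_congr rfl hfib, Finset.sum_const,
      smul_eq_mul, mul_comm]
  have hsyl : ∀ z ∈ orbit ↥Y x, ∃ R : Sylow p G, (R : Subgroup G) ≤ kappa p Y z := by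
    intro z hz
    obtain ⟨R, hR, hRz⟩ := exists_sylow_fixing P hP hx₀ hfx z hz
    exact ⟨R, le_kappa R.2 hR hRz⟩
  have hf : fixN (P : Subgroup G) (orbit ↥Y x) = b * fixN (P : Subgroup G) (orbit ↥Y (pt p Y x)) := by
    have hs1 : ({z ∈ orbit ↥Y x | Fixes (P : Subgroup G) z} : Set Ω) =
        ↑(O.filter (fun z => Fixes (P : Subgroup G) (pt p Y z))) := by
      ext z
      simp only [Set.mem_setOf_eq, Finset.coe_filter, hO, Set.Finite.mem_toFinset]
      exact ⟨fun h => ⟨h.1, (fixes_pt_iff P hP (hsyl z h.1)).mpr h.2⟩,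
        fun h => ⟨h.1, (fixes_pt_iff P hP (hsyl z h.1)).mp h.2⟩⟩
    have hs2 : ({w ∈ orbit ↥Y (pt p Y x) | Fixes (P : Subgroup G) w} : Set (SubPts G)) =
        ↑(Ob.filter (fun w => Fixes (P : Subgroup G) w)) := by
      ext z; simp [hOb]
    rw [fixN, fixN, hs1, hs2, Set.ncard_coe_finset, Set.ncard_coe_finset,
      Finset.card_eq_sum_card_fiberwise (f := pt p Y) (t := Ob.filter (fun w => Fixes (P : Subgroup G) w))]
    · rw [Finset.sum_congr rfl (g := fun _ => b) fun w hw => ?_, Finset.sum_const, smul_eq_mul, mul_comm]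
      rw [Finset.mem_filter] at hw
      rw [← hfib w hw.1, Finset.filter_filter]
      congr 1
      refine Finset.filter_congr fun a _ => ?_
      exact ⟨fun h => h.2, fun h => ⟨h ▸ hw.2, h⟩⟩
    · intro a ha
      rw [Finset.mem_coe, Finset.mem_filter] at ha ⊢
      exact ⟨hmaps a ha.1, ha.2⟩
  refine ⟨b, Finset.card_pos.mpr ⟨x, Finset.mem_filter.mpr ⟨(Set.Finite.mem_toFinset _).mpr (mem_orbit_self x), rfl⟩⟩,
    ?_, hn, fun z hz hne hzx => ?_⟩
  · rw [slack, slack, hn, hf]
    push_cast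
    ring
  · refine Finset.one_lt_card.mpr ⟨z, ?_, x, ?_, hne⟩
    · exact Finset.mem_filter.mpr ⟨(Set.Finite.mem_toFinset _).mpr hz, hzx⟩
    · exact Finset.mem_filter.mpr ⟨(Set.Finite.mem_toFinset _).mpr (mem_orbit_self x), rfl⟩

end

/-- the induction hypothesis -/
def Below (G : Type u) [Group G] (p n : ℕ) : Prop :=
  ∀ (Ω : Type u) [MulAction G Ω] (Y : Subgroup G), PGen p Y → ∀ P : Sylow p G, (P : Subgroup G) ≤ Y →
    ∀ x : Ω, 1 < (orbit ↥Y x).ncard → (orbit ↥Y x).ncard < n → 0 ≤ slack p (P : Subgroup G) (orbit ↥Y x)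

/-- few points in orbits of small slack share a Sylow subgroup -/
theorem common {n : ℕ} (hn : Below G p n) (i : ℕ) : ∀ (Ω : Type u) [MulAction G Ω] (Y : Subgroup G), PGen p Y →
    ∀ P : Sylow p G, (P : Subgroup G) ≤ Y → ∀ (k : ℕ) (S : Finset Ω), S.card ≤ i → k + i < p →
    (∀ z ∈ S, slack p (P : Subgroup G) (orbit ↥Y z) ≤ (k : ℤ) * p ∧ (orbit ↥Y z).ncard < n) →
    ∃ Q : Sylow p G, (Q : Subgroup G) ≤ Y ∧ ∀ z ∈ S, Fixes (Q : Subgroup G) z := by
  induction i with
  | zero =>
    intro Ω _ Y _ P hP k S hS _ _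
    refine ⟨P, hP, fun z hz => ?_⟩
    rw [Finset.card_eq_zero.mp (Nat.le_zero.mp hS)] at hz
    exact absurd hz (Finset.notMem_empty z)
  | succ i ih =>
    intro Ω _ Y hY P hP k S hS hki hsl
    classical
    rcases S.eq_empty_or_nonempty with rfl | hne
    · exact ⟨P, hP, fun z hz => absurd hz (Finset.notMem_empty z)⟩
    have hfixed : ∀ z ∈ S, ∃ z₀ ∈ orbit ↥Y z, Fixes (P : Subgroup G) z₀ := fun z hz => by
      refine exists_fixed P hP z (lt_of_le_of_lt (hsl z hz).1 ?_)
      have : (k : ℤ) + 1 < p := by omega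
      nlinarith
    obtain ⟨ω, hω, hmax⟩ := S.exists_max_image (fun z => Nat.card ↥(kappa p Y z)) hne
    obtain ⟨z₀, hz₀, hPz₀⟩ := hfixed ω hω
    obtain ⟨Q₀, hQ₀Y, hQ₀ω⟩ := exists_sylow_fixing P hP hz₀ hPz₀ ω (mem_orbit_self ω)
    set L := kappa p Y ω
    have hQ₀L : (Q₀ : Subgroup G) ≤ L := le_kappa Q₀.2 hQ₀Y hQ₀ω
    have hLY : L ≤ Y := kappa_le Y ω
    -- one step down
    have hchild : ∀ z ∈ S, slack p (Q₀ : Subgroup G) (orbit ↥L (pt p Y z)) ≤ ((k + 1 : ℕ) : ℤ) * p ∧
        (orbit ↥L (pt p Y z)).ncard < n := by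
      intro z hz
      obtain ⟨z₁, hz₁, hPz₁⟩ := hfixed z hz
      obtain ⟨b, hb1, hbs, hbn, -⟩ := slack_pt P hP hz₁ hPz₁
      set w := pt p Y z
      have hsw : slack p (Q₀ : Subgroup G) (orbit ↥Y w) ≤ (k : ℤ) * p := by
        rw [slack_eq P Q₀ hP hQ₀Y]
        have h := (hsl z hz).1
        rw [hbs] at h
        have hb : (1 : ℤ) ≤ b := by exact_mod_cast hb1
        rcases le_or_gt (slack p (P : Subgroup G) (orbit ↥Y w)) 0 with h0 | h0
        · exact h0.trans (by positivity)
        · nlinarith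
      have hnw : (orbit ↥Y w).ncard < n :=
        lt_of_le_of_lt (by rw [hbn]; exact Nat.le_mul_of_pos_left _ hb1) (hsl z hz).2
      obtain ⟨I, hI, hmem⟩ := slack_decomp (p := p) hLY (Q₀ : Subgroup G) w
      have hsub : ∀ o ∈ I, o.ncard ≤ (orbit ↥Y w).ncard := by
        intro o ho
        obtain ⟨w', hw', rfl⟩ := (hmem o).mp ho
        refine Set.ncard_le_ncard ?_ (orbit_finite Y w)
        rw [← orbit_eq_iff.mpr hw']
        rintro _ ⟨l, rfl⟩
        exact mem_orbit_iff'.mpr ⟨l, hLY l.2, rfl⟩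
      have hlow : ∀ o ∈ I, (if o = {(⟨L⟩ : SubPts G)} then -(p : ℤ) else 0) ≤ slack p (Q₀ : Subgroup G) o := by
        intro o ho
        obtain ⟨w', hw', rfl⟩ := (hmem o).mp ho
        rcases Nat.lt_or_ge 1 (orbit ↥L w').ncard with h1 | h1
        · have h := hn (SubPts G) L (pgen_kappa Y ω) Q₀ hQ₀L w' h1 (lt_of_le_of_lt (hsub _ ho) hnw)
          split_ifs
          · have := hp.out.pos; omega
          · exact h
        · have horb : orbit ↥L w' = {w'} := Set.eq_singleton_iff_unique_mem.mpr ⟨mem_orbit_self w',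
            fun a ha => (Set.ncard_le_one (orbit_finite L w')).mp h1 a ha w' (mem_orbit_self w')⟩
          rw [← pt_image] at hw'
          obtain ⟨z', hz', rfl⟩ := hw'
          obtain ⟨R, hR, hRz'⟩ := exists_sylow_fixing P hP hz₁ hPz₁ z' hz'
          have hfix : Fixes L (pt p Y z') := fun l hl => by
            have hm : l • pt p Y z' ∈ orbit ↥L (pt p Y z') := mem_orbit_iff'.mpr ⟨l, hl, rfl⟩
            rw [horb] at hm
            exact hm
          have hle : L ≤ kappa p Y z' := le_of_fixes_pt (pgen_kappa Y ω) R (le_kappa R.2 hR hRz') hfix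
          have heq : L = kappa p Y z' := eq_of_le_of_card_ge hle ((card_kappa hz').le.trans (hmax z hz))
          rw [horb, if_pos (by rw [pt, ← heq])]
          exact slack_singleton_ge _ _
      have hw : orbit ↥L w ∈ I := (hmem _).mpr ⟨w, mem_orbit_self w, rfl⟩
      refine ⟨?_, lt_of_le_of_lt (hsub _ hw) hnw⟩
      have hrest : -(p : ℤ) ≤ ∑ o ∈ I.erase (orbit ↥L w), slack p (Q₀ : Subgroup G) o := by
        refine le_trans ?_ (Finset.sum_le_sum fun o ho => hlow o (Finset.mem_of_mem_erase ho))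
        rw [Finset.sum_ite_eq']
        split_ifs
        · exact le_rfl
        · simp
      rw [← Finset.add_sum_erase I _ hw] at hI
      push_cast
      linarith
    obtain ⟨Q, hQL, hQ⟩ := ih (SubPts G) L (pgen_kappa Y ω) Q₀ hQ₀L (k + 1) ((S.erase ω).image (pt p Y))
      (Finset.card_image_le.trans (by rw [Finset.card_erase_of_mem hω]; omega)) (by omega)
      (fun w hw => by
        obtain ⟨z, hz, rfl⟩ := Finset.mem_image.mp hw
        exact hchild z (Finset.mem_of_mem_erase hz))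
    refine ⟨Q, hQL.trans hLY, fun z hz => ?_⟩
    by_cases hzω : z = ω
    · rw [hzω]
      exact hQL.trans (kappa_le_stab Y ω)
    · obtain ⟨z₁, hz₁, hPz₁⟩ := hfixed z hz
      obtain ⟨R, hR, hRz⟩ := exists_sylow_fixing P hP hz₁ hPz₁ z (mem_orbit_self z)
      exact (fixes_pt_iff Q (hQL.trans hLY) ⟨R, le_kappa R.2 hR hRz⟩).mp
        (hQ _ (Finset.mem_image_of_mem _ (Finset.mem_erase.mpr ⟨hzω, hz⟩)))

/-- the bound -/
theorem below (n : ℕ) : Below G p n := by
  induction n with
  | zero => intro Ω _ Y _ P _ x _ h; omega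
  | succ n ih =>
    intro Ω _ Y hY P hP x h1 hle
    classical
    rcases Nat.lt_or_ge (orbit ↥Y x).ncard n with h | h
    · exact ih Ω Y hY P hP x h1 h
    have hncard : (orbit ↥Y x).ncard = n := by omega
    have hpp := hp.out.two_le
    by_cases hfix : ∃ x₀ ∈ orbit ↥Y x, Fixes (P : Subgroup G) x₀
    swap
    · rw [slack, fixN, show ({z ∈ orbit ↥Y x | Fixes (P : Subgroup G) z} : Set Ω) = ∅ from
        Set.eq_empty_iff_forall_notMem.mpr fun z hz => hfix ⟨z, hz⟩, Set.ncard_empty]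
      push_cast
      have : (0 : ℤ) ≤ (orbit ↥Y x).ncard := by positivity
      nlinarith
    obtain ⟨x₀, hx₀, hPx₀⟩ := hfix
    rw [← orbit_eq_iff.mpr hx₀] at h1 hncard ⊢
    clear hx₀ hle h x
    set K := kappa p Y x₀
    have hPK : (P : Subgroup G) ≤ K := le_kappa P.2 hP hPx₀
    have hKY : K ≤ Y := kappa_le Y x₀
    by_cases hblock : ∃ z ∈ orbit ↥Y x₀, z ≠ x₀ ∧ Fixes K z
    · -- a nontrivial block system
      obtain ⟨z, hz, hzne, hKz⟩ := hblock
      obtain ⟨b, -, hbs, hbn, hb2⟩ := slack_pt P hP (mem_orbit_self x₀) hPx₀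
      have hKz' : K = kappa p Y z := by
        refine eq_of_le_of_card_ge ((pgen_kappa Y x₀).le_of_forall fun g hg hgo => ?_) (card_kappa hz).le
        obtain ⟨k, hk⟩ := hgo
        exact le_kappa (IsPGroup.of_card (n := k) (by rw [Nat.card_zpowers, hk])) (zpowers_le.mpr (hKY hg))
          (zpowers_le.mpr (hKz hg)) (mem_zpowers g)
      have hb := hb2 z hz hzne (by rw [pt, pt, ← hKz'])
      have hnb : (orbit ↥Y (pt p Y x₀)).ncard < n := by
        rw [hncard] at hbn
        have hpos : 0 < (orbit ↥Y (pt p Y x₀)).ncard :=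
          (Set.ncard_pos (orbit_finite _ _)).mpr (nonempty_orbit _)
        nlinarith
      have hgt : 1 < (orbit ↥Y (pt p Y x₀)).ncard := by
        by_contra hle1
        have hall : Y ≤ stabilizer G x₀ := by
          refine hY.le_of_forall fun g hg hgo => ?_
          obtain ⟨k, hk⟩ := hgo
          obtain ⟨Q, hQ, hQY⟩ := exists_sylow_le P hP
            (IsPGroup.of_card (n := k) (by rw [Nat.card_zpowers, hk]) : IsPGroup p ↥(zpowers g)) (zpowers_le.mpr hg)
          obtain ⟨y, hy, hQy⟩ := exists_conj_mem P Q hP hQY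
          have h2 : Fixes (Q : Subgroup G) (y • x₀) := hQy ▸ (fixes_smul y).mpr hPx₀
          have h3 : kappa p Y (y • x₀) = K := by
            have := (Set.ncard_le_one (orbit_finite Y (pt p Y x₀))).mp (not_lt.mp hle1) (pt p Y (y • x₀))
              (by rw [← pt_image Y x₀]; exact ⟨y • x₀, mem_orbit_iff'.mpr ⟨y, hy, rfl⟩, rfl⟩) (pt p Y x₀) (mem_orbit_self _)
            exact congrArg SubPts.sub this
          exact kappa_le_stab Y x₀ (h3 ▸ le_kappa Q.2 hQY h2 (hQ (mem_zpowers g)))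
        have : orbit ↥Y x₀ = {x₀} := Set.eq_singleton_iff_unique_mem.mpr ⟨mem_orbit_self x₀, fun a ha => by
          obtain ⟨y, hy, rfl⟩ := mem_orbit_iff'.mp ha
          exact hall hy⟩
        rw [this, Set.ncard_singleton] at h1
        omega
      rw [hbs]
      exact mul_nonneg (by positivity) (ih (SubPts G) Y hY P hP _ hgt hnb)
    -- the primitive-like case
    push Not at hblock
    by_contra hneg
    push Not at hneg
    obtain ⟨I, hI, hmem⟩ := slack_decomp (p := p) hKY (P : Subgroup G) x₀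
    have horb0 : orbit ↥K x₀ = {x₀} := Set.eq_singleton_iff_unique_mem.mpr ⟨mem_orbit_self x₀, fun a ha => by
      obtain ⟨y, hy, rfl⟩ := mem_orbit_iff'.mp ha
      exact kappa_le_stab Y x₀ hy⟩
    have h0I : ({x₀} : Set Ω) ∈ I := (hmem _).mpr ⟨x₀, mem_orbit_self x₀, horb0⟩
    have hsmall : ∀ z ∈ orbit ↥Y x₀, z ≠ x₀ → 1 < (orbit ↥K z).ncard ∧ (orbit ↥K z).ncard < n := by
      intro z hz hne
      constructor
      · by_contra hle1
        refine hblock z hz hne fun l hl => ?_
        exact (Set.ncard_le_one (orbit_finite K z)).mp (not_lt.mp hle1) (l • z) (mem_orbit_iff'.mpr ⟨l, hl, rfl⟩) z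
          (mem_orbit_self z)
      · rw [← hncard]
        refine Set.ncard_lt_ncard (Set.ssubset_iff_subset_ne.mpr ⟨?_, fun he => hne ?_⟩) (orbit_finite Y x₀)
        · rw [← orbit_eq_iff.mpr hz]
          rintro _ ⟨l, rfl⟩
          exact mem_orbit_iff'.mpr ⟨l, hKY l.2, rfl⟩
        · have hx : x₀ ∈ orbit ↥K z := he ▸ mem_orbit_self x₀
          have hz' : z ∈ orbit ↥K x₀ := by rw [orbit_eq_iff.mpr hx]; exact mem_orbit_self z
          rwa [horb0] at hz'
    have hne0 : ∀ o ∈ I.erase {x₀}, ∃ z ∈ orbit ↥Y x₀, z ≠ x₀ ∧ orbit ↥K z = o := by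
      intro o ho
      obtain ⟨z, hz, rfl⟩ := (hmem o).mp (Finset.mem_of_mem_erase ho)
      exact ⟨z, hz, fun h => (Finset.mem_erase.mp ho).1 (h ▸ horb0), rfl⟩
    have hnn : ∀ o ∈ I.erase {x₀}, 0 ≤ slack p (P : Subgroup G) o := by
      intro o ho
      obtain ⟨z, hz, hne, rfl⟩ := hne0 o ho
      exact ih Ω K (pgen_kappa Y x₀) P hPK z (hsmall z hz hne).1 (hsmall z hz hne).2
    have hsum := hI
    rw [← Finset.add_sum_erase I _ h0I] at hsum
    have hbase := slack_singleton_ge (p := p) (P : Subgroup G) x₀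
    obtain ⟨c, hc⟩ := slack_dvd P.2 hP x₀
    have hzero : ∀ o ∈ I.erase {x₀}, slack p (P : Subgroup G) o = 0 := by
      intro o ho
      obtain ⟨z, hz, hne, rfl⟩ := hne0 o ho
      obtain ⟨d, hd⟩ := slack_dvd P.2 hPK z
      have hle := Finset.single_le_sum hnn ho
      have h0 := hnn _ ho
      have hc1 : c ≤ -1 := by
        by_contra hc1
        have : (0 : ℤ) ≤ c := by omega
        nlinarith
      rw [hd] at h0 hle ⊢
      have : (p : ℤ) * d < p * 1 := by nlinarith
      have h2 : d < 1 := lt_of_mul_lt_mul_left this (by positivity)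
      have h3 : 0 ≤ d := by
        by_contra h3
        nlinarith
      rw [show d = 0 by omega, mul_zero]
    -- a `p`-element with an orbit of length `p` through `x₀`
    obtain ⟨g, hgY, ⟨a, ha⟩, hgx⟩ : ∃ g ∈ Y, (∃ a, orderOf g = p ^ a) ∧ g • x₀ ≠ x₀ := by
      by_contra hcon
      have hall : Y ≤ stabilizer G x₀ := hY.le_of_forall fun g hg hgo => by
        by_contra h
        exact hcon ⟨g, hg, hgo, h⟩
      have : orbit ↥Y x₀ = {x₀} := Set.eq_singleton_iff_unique_mem.mpr ⟨mem_orbit_self x₀, fun a ha => by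
        obtain ⟨y, hy, rfl⟩ := mem_orbit_iff'.mp ha
        exact hall hy⟩
      rw [this, Set.ncard_singleton] at h1
      omega
    have hex : ∃ j, g ^ p ^ j • x₀ = x₀ := ⟨a, by rw [← ha, pow_orderOf_eq_one, one_smul]⟩
    obtain ⟨j, hj⟩ : ∃ j, Nat.find hex = j + 1 := by
      refine ⟨Nat.find hex - 1, ?_⟩
      have : Nat.find hex ≠ 0 := fun h => hgx (by have := Nat.find_spec hex; rwa [h, pow_zero, pow_one] at this)
      omega
    set h := g ^ p ^ j with hh
    have hhY : h ∈ Y := pow_mem hgY _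
    have hh1 : h • x₀ ≠ x₀ := Nat.find_min hex (by omega)
    have hhp : h ^ p • x₀ = x₀ := by
      have := Nat.find_spec hex
      rwa [hj, pow_succ, pow_mul] at this
    have hiter : ∀ i : ℕ, h ^ i • x₀ = h ^ (i % p) • x₀ := by
      intro i
      conv_lhs => rw [← Nat.mod_add_div i p, pow_add, pow_mul, mul_smul]
      congr 1
      induction i / p with
      | zero => rw [pow_zero, one_smul]
      | succ m hm => rw [pow_succ, mul_smul, hhp, hm]
    set S := (Finset.range (p - 1)).image (fun i => h ^ (i + 1) • x₀)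
    obtain ⟨Q, hQK, hQ⟩ := common ih (p - 1) Ω K (pgen_kappa Y x₀) P hPK 0 S
      (Finset.card_image_le.trans (Finset.card_range _).le) (by omega) (fun z hz => by
        obtain ⟨i, hi, rfl⟩ := Finset.mem_image.mp hz
        rw [Finset.mem_range] at hi
        have hne : h ^ (i + 1) • x₀ ≠ x₀ := by
          intro he
          apply hh1
          have hg1 : Nat.gcd (i + 1) p = 1 := Nat.coprime_comm.mp (hp.out.coprime_iff_not_dvd.mpr
            fun hd => by have := Nat.le_of_dvd (by omega) hd; omega)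
          have hz1 : (1 : ℤ) = (i + 1 : ℕ) * Nat.gcdA (i + 1) p + p * Nat.gcdB (i + 1) p := by
            rw [← Nat.gcd_eq_gcd_ab, hg1, Nat.cast_one]
          have hs1 : h ^ (i + 1) ∈ stabilizer G x₀ := he
          have hs2 : h ^ p ∈ stabilizer G x₀ := hhp
          have : h ^ (1 : ℤ) ∈ stabilizer G x₀ := by
            rw [hz1, zpow_add, zpow_mul, zpow_mul, zpow_natCast, zpow_natCast]
            exact mul_mem (zpow_mem hs1 _) (zpow_mem hs2 _)
          rwa [zpow_one] at this
        have hz : h ^ (i + 1) • x₀ ∈ orbit ↥Y x₀ := mem_orbit_iff'.mpr ⟨_, pow_mem hhY _, rfl⟩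
        refine ⟨?_, (hsmall _ hz hne).2⟩
        rw [hzero _ (Finset.mem_erase.mpr ⟨fun he => hne (he ▸ mem_orbit_self _ : h ^ (i + 1) • x₀ ∈ ({x₀} : Set Ω)),
          (hmem _).mpr ⟨_, hz, rfl⟩⟩)]
        simp)
    set M := ⨅ i : ℕ, stabilizer G (h ^ i • x₀) with hM
    have hQM : (Q : Subgroup G) ≤ M := by
      refine le_iInf fun i => ?_
      show Fixes (Q : Subgroup G) (h ^ i • x₀)
      rw [hiter i]
      rcases Nat.eq_zero_or_pos (i % p) with h0 | h0
      · rw [h0, pow_zero, one_smul]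
        exact hQK.trans (kappa_le_stab Y x₀)
      · exact hQ _ (Finset.mem_image.mpr ⟨i % p - 1,
          Finset.mem_range.mpr (by have := Nat.mod_lt i hp.out.pos; omega), by rw [Nat.sub_add_cancel h0]⟩)
    have hnorm : zpowers h ≤ normalizer (M : Set G) := by
      rw [zpowers_le, mem_normalizer_iff]
      intro m
      simp only [hM, Subgroup.mem_iInf, mem_stabilizer_iff]
      constructor
      · intro hm i
        have he : h ^ i • x₀ = h • h ^ (i + (p - 1)) • x₀ := by
          rw [← mul_smul, ← pow_succ', hiter i, hiter (i + (p - 1) + 1), show i + (p - 1) + 1 = i + p by omega,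
            Nat.add_mod_right]
        rw [he, mul_smul, mul_smul, inv_smul_smul, hm]
      · intro hm i
        have := hm (i + 1)
        rw [pow_succ', mul_smul, mul_smul, mul_smul, inv_smul_smul] at this
        exact MulAction.injective h this
    have hhM : h ∈ M := by
      refine le_of_normalizing Q hQM ?_ hnorm (mem_zpowers h)
      have hgp : IsPGroup p ↥(zpowers g) := IsPGroup.of_card (n := a) (by rw [Nat.card_zpowers, ha])
      exact hgp.to_le (zpowers_le.mpr (pow_mem (mem_zpowers g) _))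
    apply hh1
    have := (Subgroup.mem_iInf.mp hhM) 0
    rwa [pow_zero, one_smul, mem_stabilizer_iff] at this

/-- the bound, for an arbitrary nontrivial orbit -/
theorem slack_nonneg {Ω : Type u} [MulAction G Ω] {Y : Subgroup G} (hY : PGen p Y) (P : Sylow p G)
    (hP : (P : Subgroup G) ≤ Y) (x : Ω) (h1 : 1 < (orbit ↥Y x).ncard) :
    0 ≤ slack p (P : Subgroup G) (orbit ↥Y x) :=
  below ((orbit ↥Y x).ncard + 1) Ω Y hY P hP x h1 (Nat.lt_succ_self _)

end Cfsg.Lib.SylowFix
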